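import Groth.Agent.HSLib.Samuel
import Groth.Agent.GrLib8.HilbertFn

/-!
# Hilbert functions of quotients of polynomial rings
-/

set_option autoImplicit false
set_option linter.style.haveILetI false

open MvPolynomial

namespace Groth.Agent.H4Hilb

universe u

theorem leadingCoeff_nonneg {p : Polynomial ℚ} {N : ℕ} (h : ∀ n : ℕ, N ≤ n → 0 ≤ p.eval (n : ℚ)) :
    0 ≤ p.leadingCoeff := by
  by_contra hneg
  push Not at hneg
  rcases Nat.eq_zero_or_pos p.natDegree with h0 | h0
  · obtain ⟨c, rfl⟩ := Polynomial.natDegree_eq_zero.1 h0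
    rw [Polynomial.leadingCoeff_C] at hneg
    have := h N le_rfl
    rw [Polynomial.eval_C] at this
    linarith
  · have hdeg : 0 < p.degree := Polynomial.natDegree_pos_iff_degree_pos.1 h0
    have ht := (p.tendsto_atBot_of_leadingCoeff_nonpos hdeg hneg.le).comp (tendsto_natCast_atTop_atTop (R := ℚ))
    obtain ⟨n, hn⟩ := Filter.eventually_atTop.1 (ht.eventually (Filter.eventually_le_atBot (-1 : ℚ)))
    have h1 := hn (max n N) (le_max_left _ _)
    have h2 := h (max n N) (le_max_right _ _)
    simp only [Function.comp_apply] at h1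
    linarith

/-- A polynomial squeezed between zero and a polynomial of degree below `s` has degree below `s`. -/
theorem degree_lt_of_squeeze {p g : Polynomial ℚ} {s N : ℕ} (hg : g.degree < (s : WithBot ℕ))
    (h : ∀ n : ℕ, N ≤ n → 0 ≤ p.eval (n : ℚ) ∧ p.eval (n : ℚ) ≤ g.eval (n : ℚ)) : p.degree < (s : WithBot ℕ) := by
  by_contra hcon
  push Not at hcon
  have hgp : g.degree < p.degree := hg.trans_le hcon
  have h1 := leadingCoeff_nonneg fun n hn => (h n hn).1
  have h2 := leadingCoeff_nonneg (p := g - p) (N := N) fun n hn => by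
    rw [Polynomial.eval_sub]; linarith [(h n hn).2]
  have hp0 : p ≠ 0 := Polynomial.ne_zero_of_degree_gt hgp
  rw [← neg_sub p g, Polynomial.leadingCoeff_neg, Polynomial.leadingCoeff_sub_of_degree_lt hgp] at h2
  have h3 : p.leadingCoeff = 0 := by linarith
  exact hp0 (Polynomial.leadingCoeff_eq_zero.1 h3)

variable {k : Type u} [Field k] {d : ℕ}

theorem finrank_homogeneous (r n : ℕ) :
    Module.Finite k (homogeneousSubmodule (Fin (r + 1)) k n) ∧
      Module.finrank k (homogeneousSubmodule (Fin (r + 1)) k n) = Nat.choose (r + n) r := by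
  obtain ⟨h1, h2⟩ := GrLib8.stdGr_piece (k := k) r (n : ℤ)
  rw [if_pos (Int.natCast_nonneg n), Int.toNat_natCast] at h2
  exact ⟨(GrLib8.stdGr_natCast (k := k) (r + 1) n) ▸ h1, (GrLib8.stdGr_natCast (k := k) (r + 1) n) ▸ h2⟩

theorem surjective_quot_idealOfVars :
    Function.Surjective (algebraMap k (MvPolynomial (Fin d) k ⧸ idealOfVars (Fin d) k)) := by
  intro z
  obtain ⟨p, rfl⟩ := Ideal.Quotient.mk_surjective z
  refine ⟨constantCoeff p, ?_⟩
  rw [IsScalarTower.algebraMap_apply k (MvPolynomial (Fin d) k), Ideal.Quotient.algebraMap_eq, Ideal.Quotient.eq,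
    ← pow_one (idealOfVars (Fin d) k), mem_pow_idealOfVars_iff']
  intro x hx
  have hx0 : x = 0 := (Finsupp.degree_eq_zero_iff x).1 (by omega)
  subst hx0
  simp [constantCoeff_eq]

/-- Modules killed by the variables have their dimension as length. -/
theorem length_eq_finrank (V : Type u) [AddCommGroup V] [Module (MvPolynomial (Fin d) k) V] [Module k V]
    [IsScalarTower k (MvPolynomial (Fin d) k) V] [Module.Finite k V]
    (hV : Module.IsTorsionBySet (MvPolynomial (Fin d) k) V (idealOfVars (Fin d) k : Set (MvPolynomial (Fin d) k))) :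
    Module.length (MvPolynomial (Fin d) k) V = (Module.finrank k V : ℕ∞) := by
  let R := MvPolynomial (Fin d) k
  let Q := R ⧸ idealOfVars (Fin d) k
  letI : Module Q V := hV.module
  haveI : IsScalarTower R Q V := hV.isScalarTower
  haveI : IsScalarTower k Q V := ⟨fun c q v => by
    obtain ⟨r, rfl⟩ := Ideal.Quotient.mk_surjective q
    show (c • r) • v = c • (r • v)
    exact smul_assoc c r v⟩
  rw [Module.length_eq_of_surjective (M := V) (S := R) (R := Q) Ideal.Quotient.mk_surjective,
    ← Module.length_eq_of_surjective (M := V) (S := k) (R := Q) surjective_quot_idealOfVars, Module.length_eq_finrank]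

theorem coeff_hom_eq (n : ℕ) (g : MvPolynomial (Fin d) k) (hg : g ∈ idealOfVars (Fin d) k ^ n) :
    g - homogeneousComponent n g ∈ idealOfVars (Fin d) k ^ (n + 1) := by
  rw [mem_pow_idealOfVars_iff'] at hg ⊢
  intro x hx
  rw [coeff_sub, coeff_homogeneousComponent]
  split_ifs with h
  · exact sub_self _
  · rw [hg x (by omega), sub_zero]

/-- The Hilbert function of a quotient by a homogeneous ideal is eventually polynomial. -/
theorem exists_poly (I : Ideal (MvPolynomial (Fin d) k))
    (hI : ∀ x ∈ I, ∀ n, homogeneousComponent n x ∈ I)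
    (hfin : ∀ n, Module.Finite k (homogeneousSubmodule (Fin d) k n)) :
    ∃ P : Polynomial ℚ, ∃ N : ℕ, ∀ n : ℕ, N ≤ n →
      ((Module.finrank k (homogeneousSubmodule (Fin d) k n) : ℚ) -
        (Module.finrank k ↥(I.restrictScalars k ⊓ homogeneousSubmodule (Fin d) k n) : ℚ)) = P.eval (n : ℚ) := by
  classical
  let R := MvPolynomial (Fin d) k
  let m : Ideal R := idealOfVars (Fin d) k
  let M := R ⧸ I
  have hmax : HSLib.MaxSupp m M := fun p _ hp => by
    have hm : m.IsMaximal := by
      refine Ideal.Quotient.maximal_of_isField m ?_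
      have hne : Nontrivial (R ⧸ m) := Ideal.Quotient.nontrivial_iff.2 fun h => by
        have h1 := (mem_pow_idealOfVars_iff' 1 (1 : R)).1 (by rw [pow_one, show idealOfVars (Fin d) k = ⊤ from h]; trivial) 0 (by simp)
        simp at h1
      exact MulEquiv.isField (Field.toIsField k) (RingEquiv.ofBijective (algebraMap k (R ⧸ m))
        ⟨(algebraMap k (R ⧸ m)).injective, surjective_quot_idealOfVars⟩).symm.toMulEquiv
    exact (hm.eq_of_le p.2.ne_top hp) ▸ hm
  obtain ⟨P, -, hP⟩ := HSLib.exists_poly (A := R) (M := M) (X : Fin d → R) hmax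
  obtain ⟨N, hN⟩ := Filter.eventually_atTop.1 hP
  refine ⟨P.comp (Polynomial.X + Polynomial.C 1) - P, N, fun n hn => ?_⟩
  rw [Polynomial.eval_sub, Polynomial.eval_comp, Polynomial.eval_add, Polynomial.eval_X, Polynomial.eval_C,
    ← hN n hn, ← Nat.cast_one, ← Nat.cast_add, ← hN (n + 1) (by omega)]
  let N₁ : Submodule R M := m ^ n • ⊤
  let N₂ : Submodule R M := m ^ (n + 1) • ⊤
  have h12 : N₂ ≤ N₁ := Submodule.smul_mono_left (Ideal.pow_le_pow_right (Nat.le_succ n))
  have hadd := HSLib.length_quot_eq_add h12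
  have hmem : ∀ (j : ℕ) (y : R), Submodule.Quotient.mk y ∈ (m ^ j • ⊤ : Submodule R M) ↔ y ∈ I ⊔ m ^ j := by
    intro j y
    have : (m ^ j • ⊤ : Submodule R M) = Submodule.map (Submodule.mkQ I) (m ^ j : Ideal R) := by
      conv_rhs => rw [← Ideal.mul_top (m ^ j)]
      rw [← Ideal.smul_eq_mul, Submodule.map_smul'', Submodule.map_top, Submodule.range_mkQ]
    rw [this, ← Submodule.mkQ_apply, ← Submodule.mem_comap, Submodule.comap_map_mkQ]
  let V := ↥N₁ ⧸ N₂.comap N₁.subtype
  let φ : homogeneousSubmodule (Fin d) k n →ₗ[k] V :=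
    { toFun := fun h => Submodule.Quotient.mk ⟨Submodule.Quotient.mk h.1, (hmem n h.1).2 (Submodule.mem_sup_right
        ((mem_pow_idealOfVars_iff' n _).2 fun x hx => by
          by_contra hne
          have := h.2 hne
          simp only [Finsupp.degree_eq_weight_one, Pi.one_def] at this hx
          exact absurd this (by omega)))⟩
      map_add' := fun a b => rfl
      map_smul' := fun c a => rfl }
  have hsurj : Function.Surjective φ := by
    intro v
    obtain ⟨⟨z, hz⟩, rfl⟩ := Submodule.Quotient.mk_surjective _ v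
    obtain ⟨y, rfl⟩ := Submodule.Quotient.mk_surjective _ z
    obtain ⟨i, hi, g, hg, rfl⟩ := Submodule.mem_sup.1 ((hmem n y).1 hz)
    refine ⟨⟨homogeneousComponent n g, homogeneousComponent_mem n g⟩, (Submodule.Quotient.eq _).2 ?_⟩
    refine (hmem (n + 1) _).2 ?_
    show homogeneousComponent n g - (i + g) ∈ _
    rw [show homogeneousComponent n g - (i + g) = -i + -(g - homogeneousComponent n g) by abel]
    exact add_mem (Submodule.mem_sup_left (neg_mem hi)) (Submodule.mem_sup_right (neg_mem (coeff_hom_eq n g hg)))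
  have hker : LinearMap.ker φ = (I.restrictScalars k ⊓ homogeneousSubmodule (Fin d) k n).comap
      (homogeneousSubmodule (Fin d) k n).subtype := by
    ext ⟨h, hh⟩
    rw [LinearMap.mem_ker, Submodule.mem_comap, Submodule.mem_inf]
    refine (Submodule.Quotient.mk_eq_zero _).trans ((hmem (n + 1) h).trans ⟨fun hx => ⟨?_, hh⟩, fun hx => Submodule.mem_sup_left hx.1⟩)
    obtain ⟨i, hi, g, hg, rfl⟩ := Submodule.mem_sup.1 hx
    have hgn : homogeneousComponent n g = 0 := by
      ext x
      rw [coeff_homogeneousComponent, coeff_zero]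
      split_ifs with hx'
      · exact (mem_pow_idealOfVars_iff' (n + 1) g).1 hg x (by omega)
      · rfl
    have hkey := homogeneousComponent_of_mem (m := n) hh
    rw [if_pos rfl, map_add, hgn, add_zero] at hkey
    show i + g ∈ I
    rw [← hkey]
    exact hI i hi n
  haveI := hfin n
  haveI : Module.Finite k V := Module.Finite.of_surjective φ hsurj
  have hlen : HSLib.qlen N₁ N₂ = (Module.finrank k V : ℕ∞) := by
    refine length_eq_finrank V fun v a => ?_
    obtain ⟨⟨z, hz⟩, rfl⟩ := Submodule.Quotient.mk_surjective _ v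
    refine (Submodule.Quotient.mk_eq_zero _).2 ?_
    show (a : R) • z ∈ N₂
    have : m ^ (n + 1) • (⊤ : Submodule R M) = m • N₁ := by rw [pow_succ', Submodule.mul_smul]
    rw [show N₂ = m • N₁ from this]
    exact Submodule.smul_mem_smul a.2 hz
  have hrk := φ.finrank_range_add_finrank_ker
  rw [LinearMap.range_eq_top.2 hsurj, finrank_top, hker,
    (Submodule.comapSubtypeEquivOfLe inf_le_right).finrank_eq] at hrk
  have hfinlen : Module.length R (M ⧸ N₁) ≠ ⊤ := HSLib.length_quot_ne_top hmax le_rfl
  have hh : HSLib.hs m M (n + 1) = Module.finrank k V + HSLib.hs m M n := by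
    show (Module.length R (M ⧸ N₂)).toNat = _ + (Module.length R (M ⧸ N₁)).toNat
    rw [hadd, hlen, ENat.toNat_add (ENat.natCast_ne_top _) hfinlen, ENat.toNat_natCast]
  show _ = ((HSLib.hs m M (n + 1) : ℕ) : ℚ) - ((HSLib.hs m M n : ℕ) : ℚ)
  rw [hh, ← hrk]
  push_cast
  ring

end Groth.Agent.H4Hilb
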